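import Cfsg.Agent.H112.SUTorus

/-!
# `SU₃(q)`: from four Bruhat relations to all of them (helper112)

`Γ` a group with homomorphisms `û` from the pairs, `ĥ` from the torus and an involution `w`, mapping to `SUG σ`.
The relation `w û(x) w = û(y) ĥ(ε) w û(z)` for `x = (0, κ)` and for `x = (g^j, τ₁ g^j σ(g^j))`, `j = 0, 1, 2`, implies
it for all `x ≠ 1` if `τ₁ = μ/(μ - 1)`, `μ` a generator of the group of elements of norm one
(`rel_all`); then the homomorphism `Γ → SUG σ` is injective (`injective`).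
-/

set_option autoImplicit false

namespace Cfsg.Agent.H112

open Cfsg.Agent.UThreeGen.MatGroup Matrix

variable {F : Type*} [Field F] {σ : F →+* F} [hσ : Fact (∀ x, σ (σ x) = x)]

theorem bruhat_unique {y y' z z' : HG σ} {ε ε' : Fˣ}
    (h : emb σ y * tor σ ε * wel σ * emb σ z = emb σ y' * tor σ ε' * wel σ * emb σ z') :
    y = y' ∧ ε = ε' ∧ z = z' := by
  have hM : umat y * tmat σ ε * Wm F * umat z = umat y' * tmat σ ε' * Wm F * umat z' :=
    congrArg (fun g : SUG σ => g.1.1) h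
  have e2 := congrFun (congrFun hM 2) 0
  have e1 := congrFun (congrFun hM 1) 0
  have e0 := congrFun (congrFun hM 0) 0
  simp [tmat, umat, Wm, Matrix.mul_apply, Fin.sum_univ_three] at e0 e1 e2
  have hε : ε = ε' := Units.ext (σ.injective e2)
  subst hε
  have h2 := sne (σ := σ) ε
  have hya : y.a = y'.a := σ.injective (mul_right_cancel₀ (inv_ne_zero h2) e1)
  have hyb : y.b = y'.b := mul_right_cancel₀ (inv_ne_zero h2) e0
  have hy : y = y' := HG.ext hya hyb
  subst hy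
  exact ⟨rfl, rfl, emb_injective (mul_left_cancel h)⟩

/-- the data -/
structure BN {Γ : Type*} [Group Γ] (u : HG σ →* Γ) (t : Fˣ →* Γ) (w : Γ) (φ : Γ →* SUG σ) : Prop where
  ww : w * w = 1
  wt : ∀ ε, w * t ε = t (su σ ε)⁻¹ * w
  tu : ∀ ε x, t ε * u x = u (act ε x) * t ε
  φu : ∀ x, φ (u x) = emb σ x
  φt : ∀ ε, φ (t ε) = tor σ ε
  φw : φ w = wel σ

/-- the Bruhat relation of `x` -/
def Rel {Γ : Type*} [Group Γ] (u : HG σ →* Γ) (t : Fˣ →* Γ) (w : Γ) (x : HG σ) : Prop :=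
  ∀ hx : x ≠ 1, w * u x * w = u (yof x hx) * t (eof x hx) * w * u (zof x hx)

theorem act_act (ε δ : Fˣ) (x : HG σ) : act ε (act δ x) = act (ε * δ) x := by
  ext
  · simp only [act_a, Units.val_mul, map_mul]; ring
  · simp only [act_b, Units.val_mul, map_mul]; ring

@[simp] theorem act_one (x : HG σ) : act (1 : Fˣ) x = x := by
  ext <;> simp

namespace BN

variable {Γ : Type*} [Group Γ] {u : HG σ →* Γ} {t : Fˣ →* Γ} {w : Γ} {φ : Γ →* SUG σ} (D : BN u t w φ)

include D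

theorem tw (ε : Fˣ) : t ε * w = w * t (su σ ε)⁻¹ := by
  rw [D.wt, map_inv (su σ), su_su, inv_inv]

theorem tw' (ε : Fˣ) : t ε⁻¹ * w = w * t (su σ ε) := by
  rw [D.wt, su_su]

theorem ut (ε : Fˣ) (x : HG σ) : u x * t ε = t ε * u (act ε⁻¹ x) := by
  rw [D.tu, act_act, mul_inv_cancel, act_one]

theorem of_exists {x y z : HG σ} {ε : Fˣ} (h : w * u x * w = u y * t ε * w * u z) : Rel u t w x := by
  intro hx
  have h1 := congrArg φ h
  simp only [map_mul, D.φu, D.φt, D.φw] at h1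
  rw [wel_emb_wel x hx] at h1
  obtain ⟨e1, e2, e3⟩ := bruhat_unique h1
  rw [h, e1, e2, e3]

theorem rel_act {x : HG σ} (hx : Rel u t w x) (ε : Fˣ) : Rel u t w (act ε x) := by
  by_cases h1 : x = 1
  · subst h1; intro h; exact absurd (map_one _) h
  · have e := hx h1
    have a1 : u (act ε x) = t ε * u x * t ε⁻¹ := by rw [D.tu, mul_assoc, ← map_mul, mul_inv_cancel, map_one, mul_one]
    apply D.of_exists (y := act (su σ ε)⁻¹ (yof x h1)) (ε := (su σ ε)⁻¹ * eof x h1 * ε⁻¹)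
      (z := act (su σ ε)⁻¹ (zof x h1))
    calc w * u (act ε x) * w = (w * t ε) * u x * (t ε⁻¹ * w) := by rw [a1]; simp only [mul_assoc]
      _ = t (su σ ε)⁻¹ * (w * u x * w) * t (su σ ε) := by
          rw [D.wt ε, D.tw' ε]; simp only [mul_assoc]
      _ = (t (su σ ε)⁻¹ * u (yof x h1)) * t (eof x h1) * w * (u (zof x h1) * t (su σ ε)) := by
          rw [e]; simp only [mul_assoc]
      _ = u (act (su σ ε)⁻¹ (yof x h1)) * t (su σ ε)⁻¹ * t (eof x h1) * w *
            (t (su σ ε) * u (act (su σ ε)⁻¹ (zof x h1))) := by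
          rw [D.tu (su σ ε)⁻¹, D.ut (su σ ε)]
      _ = u (act (su σ ε)⁻¹ (yof x h1)) * t (su σ ε)⁻¹ * t (eof x h1) * (w * t (su σ ε)) *
            u (act (su σ ε)⁻¹ (zof x h1)) := by simp only [mul_assoc]
      _ = _ := by rw [D.wt (su σ ε), su_su]; simp only [map_mul, mul_assoc]

theorem rel_mul {x₁ x₂ : HG σ} (h1 : x₁ ≠ 1) (h2 : x₂ ≠ 1) (r1 : Rel u t w x₁) (r2 : Rel u t w x₂)
    (h3 : zof x₁ h1 * yof x₂ h2 ≠ 1) (r3 : Rel u t w (zof x₁ h1 * yof x₂ h2)) : Rel u t w (x₁ * x₂) := by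
  have e1 := r1 h1
  have e2 := r2 h2
  have e3 := r3 h3
  generalize hx₃ : zof x₁ h1 * yof x₂ h2 = x₃ at h3 e3 r3
  have hww := D.ww
  have s1 : w * u (x₁ * x₂) * w = (w * u x₁ * w) * (w * u x₂ * w) := by
    rw [map_mul]
    calc w * (u x₁ * u x₂) * w = w * u x₁ * 1 * u x₂ * w := by simp only [mul_assoc, one_mul]
      _ = w * u x₁ * (w * w) * u x₂ * w := by rw [hww]
      _ = _ := by simp only [mul_assoc]
  have s2 : w * u (zof x₁ h1) * (u (yof x₂ h2) * t (eof x₂ h2) * w) =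
      (w * u x₃ * w) * t (su σ (eof x₂ h2))⁻¹ := by
    rw [← hx₃, map_mul]
    calc w * u (zof x₁ h1) * (u (yof x₂ h2) * t (eof x₂ h2) * w)
        = w * u (zof x₁ h1) * u (yof x₂ h2) * (t (eof x₂ h2) * w) := by simp only [mul_assoc]
      _ = _ := by rw [D.tw]; simp only [mul_assoc]
  apply D.of_exists (y := yof x₁ h1 * act (eof x₁ h1) (yof x₃ h3))
    (ε := eof x₁ h1 * eof x₃ h3 * eof x₂ h2)
    (z := act (su σ (eof x₂ h2)) (zof x₃ h3) * zof x₂ h2)
  rw [s1, e1, e2]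
  calc u (yof x₁ h1) * t (eof x₁ h1) * w * u (zof x₁ h1) *
        (u (yof x₂ h2) * t (eof x₂ h2) * w * u (zof x₂ h2))
      = u (yof x₁ h1) * t (eof x₁ h1) * (w * u (zof x₁ h1) * (u (yof x₂ h2) * t (eof x₂ h2) * w)) *
          u (zof x₂ h2) := by simp only [mul_assoc]
    _ = u (yof x₁ h1) * (t (eof x₁ h1) * u (yof x₃ h3)) * t (eof x₃ h3) * w *
          (u (zof x₃ h3) * t (su σ (eof x₂ h2))⁻¹) * u (zof x₂ h2) := by
        rw [s2, e3]; simp only [mul_assoc]
    _ = u (yof x₁ h1) * (u (act (eof x₁ h1) (yof x₃ h3)) * t (eof x₁ h1)) * t (eof x₃ h3) * w *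
          (t (su σ (eof x₂ h2))⁻¹ * u (act (su σ (eof x₂ h2)) (zof x₃ h3))) * u (zof x₂ h2) := by
        rw [D.tu (eof x₁ h1), D.ut (su σ (eof x₂ h2))⁻¹, inv_inv]
    _ = u (yof x₁ h1) * (u (act (eof x₁ h1) (yof x₃ h3)) * t (eof x₁ h1)) * t (eof x₃ h3) *
          (w * t (su σ (eof x₂ h2))⁻¹) * u (act (su σ (eof x₂ h2)) (zof x₃ h3)) * u (zof x₂ h2) := by
        simp only [mul_assoc]
    _ = _ := by
        rw [D.wt (su σ (eof x₂ h2))⁻¹, map_inv (su σ), su_su, inv_inv]; simp only [map_mul, mul_assoc]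

end BN

/-- the pair with first coordinate `a` and invariant `τ` -/
def xp (a τ : F) (h : τ + σ τ = 1) : HG σ := ⟨a, τ * (a * σ a), by
  simp only [map_mul, sig]
  linear_combination (a * σ a) * h⟩

/-- a central pair -/
def zp (b : F) (h : σ b = -b) : HG σ := ⟨0, b, by rw [h]; simp⟩

@[simp] theorem xp_a (a τ : F) (h : τ + σ τ = 1) : (xp a τ h : HG σ).a = a := rfl
@[simp] theorem xp_b (a τ : F) (h : τ + σ τ = 1) : (xp a τ h : HG σ).b = τ * (a * σ a) := rfl
omit hσ in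
@[simp] theorem zp_a (b : F) (h : σ b = -b) : (zp b h : HG σ).a = 0 := rfl
omit hσ in
@[simp] theorem zp_b (b : F) (h : σ b = -b) : (zp b h : HG σ).b = b := rfl

/-- a pair with nonzero first coordinate is an `xp` -/
theorem eq_xp {x : HG σ} (hx : x.a ≠ 0) : ∃ (τ : F) (h : τ + σ τ = 1), x = xp x.a τ h := by
  have hs : σ x.a ≠ 0 := (map_ne_zero σ).2 hx
  have hh := x.h
  refine ⟨x.b / (x.a * σ x.a), ?_, ?_⟩
  · simp only [map_div₀, map_mul, sig]
    field_simp
    linear_combination hh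
  · ext
    · rfl
    · simp only [xp_b]; field_simp

omit hσ in
theorem mu_tau {μ : F} (h : μ * σ μ = 1) (h1 : μ ≠ 1) : μ / (μ - 1) + σ (μ / (μ - 1)) = 1 := by
  have hμ : μ ≠ 0 := left_ne_zero_of_mul_eq_one h
  have e : σ μ = μ⁻¹ := eq_inv_of_mul_eq_one_right h
  have h2 : μ - 1 ≠ 0 := sub_ne_zero.2 h1
  have h3 : μ⁻¹ - 1 ≠ 0 := by
    intro h
    apply h1
    rw [sub_eq_zero, inv_eq_one] at h
    exact h
  have h4 : 1 - μ ≠ 0 := sub_ne_zero.2 (Ne.symm h1)
  rw [map_div₀, map_sub, map_one, e]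
  have e2 : μ⁻¹ / (μ⁻¹ - 1) = 1 / (1 - μ) := by
    rw [div_eq_div_iff h3 h4]; field_simp
  rw [e2]
  rw [div_add_div _ _ h2 h4, div_eq_one_iff_eq (mul_ne_zero h2 h4)]
  ring

namespace BN

variable {Γ : Type*} [Group Γ] {u : HG σ →* Γ} {t : Fˣ →* Γ} {w : Γ} {φ : Γ →* SUG σ} (D : BN u t w φ)

include D

/-- all central elements -/
theorem rel_zp (hnorm : ∀ c : F, c ≠ 0 → σ c = c → ∃ ε : Fˣ, (ε : F) * σ ε = c) {κ : F} (hκ : σ κ = -κ) (hκ0 : κ ≠ 0)
    (r : Rel u t w (zp κ hκ)) (b : F) (hb : σ b = -b) : Rel u t w (zp b hb) := by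
  by_cases hb0 : b = 0
  · subst hb0; intro h; exact absurd (by ext <;> simp) h
  · obtain ⟨ε, hε⟩ := hnorm (b / κ) (div_ne_zero hb0 hκ0) (by rw [map_div₀, hκ, hb, neg_div_neg_eq])
    have : (zp b hb : HG σ) = act ε (zp κ hκ) := by
      ext
      · simp
      · simp only [zp_b, act_b, hε]; field_simp
    rw [this]
    exact D.rel_act r ε

/-- the step: `τ'` from `f τ' = τ' σ τ₁ / (τ' - τ₁)` -/
theorem rel_step (hz : ∀ (b : F) (hb : σ b = -b), Rel u t w (zp b hb)) {τ₁ τ' τ₃ : F} (h1 : τ₁ + σ τ₁ = 1)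
    (h' : τ' + σ τ' = 1) (h3 : τ₃ + σ τ₃ = 1) (hne : τ' ≠ τ₁) (hτ₃ : τ₃ * (τ' - τ₁) = τ' * σ τ₁)
    (r1 : ∀ a : F, a ≠ 0 → Rel u t w (xp a τ₁ h1)) (r3 : ∀ a : F, a ≠ 0 → Rel u t w (xp a τ₃ h3))
    (a : F) (ha : a ≠ 0) : Rel u t w (xp a τ' h') := by
  have hsa : σ a ≠ 0 := (map_ne_zero σ).2 ha
  have hN : a * σ a ≠ 0 := mul_ne_zero ha hsa
  have hτ1 : τ₁ ≠ 0 := by rintro rfl; simp at h1
  have hsτ1 : σ τ₁ ≠ 0 := (map_ne_zero σ).2 hτ1
  have hd : τ' - τ₁ ≠ 0 := sub_ne_zero.2 hne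
  have hc : σ ((τ' - τ₁) * (a * σ a)) = -((τ' - τ₁) * (a * σ a)) := by
    simp only [map_mul, map_sub, sig]
    linear_combination (a * σ a) * h' - (a * σ a) * h1
  have e1 : (xp a τ' h' : HG σ) = xp a τ₁ h1 * zp ((τ' - τ₁) * (a * σ a)) hc := by
    ext
    · simp
    · simp only [mul_b, xp_b, zp_b, zp_a, map_zero, mul_zero, add_zero]; ring
  have n1 : (xp a τ₁ h1 : HG σ) ≠ 1 := fun e => ha (congrArg HG.a e)
  have n2 : (zp ((τ' - τ₁) * (a * σ a)) hc : HG σ) ≠ 1 := fun e => mul_ne_zero hd hN (congrArg HG.b e)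
  have e3 : zof (xp a τ₁ h1) n1 * yof (zp ((τ' - τ₁) * (a * σ a)) hc) n2 =
      xp (a / (τ₁ * (a * σ a))) τ₃ h3 := by
    ext
    · simp
    · simp only [mul_b, zof_b, yof_b, xp_b, zp_b, zof_a, yof_a, zp_a, zero_div, map_zero, mul_zero, add_zero,
        map_div₀, map_mul, sig]
      field_simp
      linear_combination -hτ₃
  have ha3 : a / (τ₁ * (a * σ a)) ≠ 0 := div_ne_zero ha (mul_ne_zero hτ1 hN)
  rw [e1]
  refine D.rel_mul n1 n2 (r1 a ha) (hz _ _) ?_ ?_
  · rw [e3]; intro e; exact ha3 (congrArg HG.a e)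
  · rw [e3]; exact r3 _ ha3

/-- all elements -/
theorem rel_all (hnorm : ∀ c : F, c ≠ 0 → σ c = c → ∃ ε : Fˣ, (ε : F) * σ ε = c) {κ : F} (hκ : σ κ = -κ) (hκ0 : κ ≠ 0)
    (r : Rel u t w (zp κ hκ)) {μ : F} (hμ : μ * σ μ = 1) (hμ1 : μ ≠ 1)
    (hgenμ : ∀ x : F, x * σ x = 1 → ∃ k : ℕ, x = μ ^ k) {g : Fˣ} (hg : ∀ x : Fˣ, ∃ n : ℤ, g ^ n = x)
    (rj : ∀ j : ℕ, j < 3 → Rel u t w (xp ((g : F) ^ j) (μ / (μ - 1)) (mu_tau hμ hμ1))) (x : HG σ) : Rel u t w x := by
  have hz := D.rel_zp hnorm hκ hκ0 r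
  -- all first coordinates for `τ₁`
  have r1 : ∀ a : F, a ≠ 0 → Rel u t w (xp a (μ / (μ - 1)) (mu_tau hμ hμ1)) := by
    intro a ha
    obtain ⟨n, hn⟩ := hg (Units.mk0 a ha)
    obtain ⟨j, hj, m, hm⟩ : ∃ j : ℕ, j < 3 ∧ ∃ m : ℤ, n = 3 * m + j := by
      refine ⟨(n % 3).toNat, by omega, n / 3, by omega⟩
    have e : (xp a (μ / (μ - 1)) (mu_tau hμ hμ1) : HG σ) =
        act ((g ^ m) ^ 2 * su σ (g ^ m)) (xp ((g : F) ^ j) (μ / (μ - 1)) (mu_tau hμ hμ1)) := by
      have hc0 : ((g ^ m : Fˣ) : F) ≠ 0 := (g ^ m).ne_zero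
      have hsc0 := sne (σ := σ) (g ^ m)
      have ha' : a = ((g ^ m : Fˣ) : F) ^ 3 * (g : F) ^ j := by
        have := congrArg (fun x : Fˣ => (x : F)) hn
        simp only [Units.val_mk0] at this
        rw [← this, hm]
        rw [_root_.zpow_add, zpow_natCast, show (3 : ℤ) * m = m * ((3 : ℕ) : ℤ) by push_cast; ring, _root_.zpow_mul, zpow_natCast]
        push_cast
        ring
      ext
      · simp only [xp_a, act_a, Units.val_mul, Units.val_pow_eq_pow_val, su_val, map_mul, map_pow, sig]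
        rw [ha']
        field_simp
      · simp only [xp_b, act_b, Units.val_mul, Units.val_pow_eq_pow_val, su_val, map_mul, map_pow, sig]
        rw [ha']
        simp only [map_mul, map_pow]
        ring
    rw [e]
    exact D.rel_act (rj j hj) _
  -- the chain
  have chain : ∀ k : ℕ, ∀ (h1 : μ ^ k ≠ 1) (h2 : μ ^ k / (μ ^ k - 1) + σ (μ ^ k / (μ ^ k - 1)) = 1) (a : F),
      a ≠ 0 → Rel u t w (xp a (μ ^ k / (μ ^ k - 1)) h2) := by
    intro k
    induction k with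
    | zero => intro h1; exact absurd (pow_zero μ) h1
    | succ k ih =>
      intro h1 h2 a ha
      by_cases hk : μ ^ k = 1
      · have e : μ ^ (k + 1) = μ := by rw [pow_succ, hk, one_mul]
        have := r1 a ha
        simp only [e]
        exact this
      · have hμk : μ ^ k * σ (μ ^ k) = 1 := by rw [map_pow, ← mul_pow, hμ, one_pow]
        have h3 := mu_tau hμk hk
        have hμ0 : μ ≠ 0 := left_ne_zero_of_mul_eq_one hμ
        have e : σ μ = μ⁻¹ := eq_inv_of_mul_eq_one_right hμ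
        have d1 : μ - 1 ≠ 0 := sub_ne_zero.2 hμ1
        have d2 : μ ^ k - 1 ≠ 0 := sub_ne_zero.2 hk
        have d3 : μ ^ (k + 1) - 1 ≠ 0 := sub_ne_zero.2 h1
        have d4 : 1 - μ ≠ 0 := sub_ne_zero.2 (Ne.symm hμ1)
        have hsτ : σ (μ / (μ - 1)) = 1 / (1 - μ) := by
          have := mu_tau hμ hμ1
          have e5 : 1 / (1 - μ) = 1 - μ / (μ - 1) := by
            rw [eq_sub_iff_add_eq, div_add_div _ _ d4 d1, div_eq_one_iff_eq (mul_ne_zero d4 d1)]
            ring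
          rw [e5]; linear_combination this
        refine D.rel_step hz (mu_tau hμ hμ1) h2 h3 ?_ ?_ r1 (ih hk h3) a ha
        · intro he
          apply hk
          rw [div_eq_div_iff d3 d1] at he
          have : μ * (μ ^ k - 1) = 0 := by rw [pow_succ] at he; linear_combination -he
          rcases mul_eq_zero.1 this with h | h
          · exact absurd h hμ0
          · exact sub_eq_zero.1 h
        · rw [hsτ]
          rw [pow_succ] at d3 ⊢
          field_simp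
          ring
  by_cases ha : x.a = 0
  · have hb : σ x.b = -x.b := by
      have := x.h
      rw [ha, zero_mul] at this
      exact eq_neg_of_add_eq_zero_right this
    have : x = zp x.b hb := by ext; exact ha; rfl
    rw [this]; exact hz _ _
  · obtain ⟨τ, hτ, hx⟩ := eq_xp ha
    have hτ1 : τ - 1 ≠ 0 := by
      intro h
      rw [sub_eq_zero] at h
      rw [h, map_one] at hτ
      have : (1 : F) = 0 := by linear_combination hτ
      exact one_ne_zero this
    have hτ0 : τ ≠ 0 := by rintro rfl; simp at hτ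
    have hst : σ τ = 1 - τ := by linear_combination hτ
    obtain ⟨k, hk⟩ := hgenμ (τ / (τ - 1)) (by
      rw [map_div₀, map_sub, map_one, hst]
      have : 1 - τ - 1 ≠ 0 := by
        intro h; apply hτ0; linear_combination -h
      rw [div_mul_div_comm, div_eq_one_iff_eq (mul_ne_zero hτ1 this)]
      ring)
    have hk1 : μ ^ k ≠ 1 := by
      rw [← hk]; intro h
      rw [div_eq_one_iff_eq hτ1] at h
      have : (1 : F) = 0 := by linear_combination h
      exact one_ne_zero this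
    have hk2 : μ ^ k / (μ ^ k - 1) = τ := by
      rw [← hk]
      field_simp
      ring
    rw [hx]
    have := chain k hk1 (by rw [hk2]; exact hτ) x.a ha
    simp only [hk2] at this
    exact this

/-- every element has a Bruhat decomposition -/
theorem exists_form (hgen : Subgroup.closure (Set.range u ∪ Set.range t ∪ {w}) = ⊤) (hR : ∀ x, Rel u t w x) (γ : Γ) :
    (∃ x ε, γ = u x * t ε) ∨ ∃ x ε y, γ = u x * t ε * w * u y := by
  have hγ : γ ∈ Subgroup.closure (Set.range u ∪ Set.range t ∪ {w}) := by rw [hgen]; trivial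
  -- stability under right multiplication by generators
  have st_u : ∀ γ : Γ, ((∃ x ε, γ = u x * t ε) ∨ ∃ x ε y, γ = u x * t ε * w * u y) → ∀ s : HG σ,
      ((∃ x ε, γ * u s = u x * t ε) ∨ ∃ x ε y, γ * u s = u x * t ε * w * u y) := by
    rintro γ (⟨x, ε, rfl⟩ | ⟨x, ε, y, rfl⟩) s
    · refine Or.inl ⟨x * act ε s, ε, ?_⟩
      rw [mul_assoc, D.tu, map_mul]; group
    · refine Or.inr ⟨x, ε, y * s, ?_⟩
      rw [map_mul]; group
  have st_t : ∀ γ : Γ, ((∃ x ε, γ = u x * t ε) ∨ ∃ x ε y, γ = u x * t ε * w * u y) → ∀ δ : Fˣ,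
      ((∃ x ε, γ * t δ = u x * t ε) ∨ ∃ x ε y, γ * t δ = u x * t ε * w * u y) := by
    rintro γ (⟨x, ε, rfl⟩ | ⟨x, ε, y, rfl⟩) δ
    · refine Or.inl ⟨x, ε * δ, ?_⟩
      rw [map_mul]; group
    · refine Or.inr ⟨x, ε * (su σ δ)⁻¹, act δ⁻¹ y, ?_⟩
      calc u x * t ε * w * u y * t δ = u x * t ε * w * (u y * t δ) := by group
        _ = u x * t ε * (w * t δ) * u (act δ⁻¹ y) := by rw [D.ut δ y]; group
        _ = _ := by rw [D.wt, map_mul]; group
  have st_w : ∀ γ : Γ, ((∃ x ε, γ = u x * t ε) ∨ ∃ x ε y, γ = u x * t ε * w * u y) →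
      ((∃ x ε, γ * w = u x * t ε) ∨ ∃ x ε y, γ * w = u x * t ε * w * u y) := by
    rintro γ (⟨x, ε, rfl⟩ | ⟨x, ε, y, rfl⟩)
    · exact Or.inr ⟨x, ε, 1, by simp⟩
    · by_cases hy : y = 1
      · subst hy
        refine Or.inl ⟨x, ε, ?_⟩
        rw [map_one, mul_one, mul_assoc, D.ww, mul_one]
      · have e := hR y hy
        refine Or.inr ⟨x * act ε (yof y hy), ε * eof y hy, zof y hy, ?_⟩
        calc u x * t ε * w * u y * w = u x * t ε * (w * u y * w) := by group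
          _ = u x * (t ε * u (yof y hy)) * t (eof y hy) * w * u (zof y hy) := by rw [e]; group
          _ = _ := by rw [D.tu]; simp only [map_mul]; group
  induction hγ using Subgroup.closure_induction_right with
  | one => exact Or.inl ⟨1, 1, by simp⟩
  | mul_right x hx y hy ih =>
    rcases hy with (⟨s, rfl⟩ | ⟨δ, rfl⟩) | rfl
    · exact st_u _ ih s
    · exact st_t _ ih δ
    · exact st_w _ ih
  | mul_inv_cancel x hx y hy ih =>
    rcases hy with (⟨s, rfl⟩ | ⟨δ, rfl⟩) | rfl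
    · rw [← map_inv]; exact st_u _ ih _
    · rw [← map_inv]; exact st_t _ ih _
    · rw [inv_eq_of_mul_eq_one_right D.ww]; exact st_w _ ih

theorem injective (hgen : Subgroup.closure (Set.range u ∪ Set.range t ∪ {w}) = ⊤) (hR : ∀ x, Rel u t w x) :
    Function.Injective φ := by
  rw [injective_iff_map_eq_one]
  intro γ hγ
  rcases D.exists_form hgen hR γ with ⟨x, ε, rfl⟩ | ⟨x, ε, y, rfl⟩
  · rw [map_mul, D.φu, D.φt] at hγ
    have hM : umat x * tmat σ ε = 1 := congrArg (fun g : SUG σ => g.1.1) hγ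
    have e0 := congrFun (congrFun hM 0) 0
    simp [tmat, umat, Matrix.mul_apply, Fin.sum_univ_three] at e0
    have hε : ε = 1 := e0
    subst hε
    rw [map_one, mul_one] at hγ
    have : x = 1 := emb_injective (by rw [hγ, map_one])
    rw [this]; simp
  · exfalso
    simp only [map_mul, D.φu, D.φt, D.φw] at hγ
    have hM : umat x * tmat σ ε * Wm F * umat y = 1 := congrArg (fun g : SUG σ => g.1.1) hγ
    have e0 := congrFun (congrFun hM 2) 0
    simp [tmat, umat, Wm, Matrix.mul_apply, Fin.sum_univ_three] at e0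

end BN

end Cfsg.Agent.H112
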