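import Cfsg.Agent.UThreeGen.MatGroup

/-!
# The torus of `SU₃(q)` and explicit Bruhat relations (helper112)

In the model `SUG σ` of `UThreeGen.MatGroup`: `tor ε = diag (ε, σ ε / ε, (σ ε)⁻¹)`,
`tor ε * emb x * (tor ε)⁻¹ = emb (act ε x)`, `wel * tor ε * wel = tor (σ ε)⁻¹`,
`wel * emb x * wel = emb (yof x) * tor (-(σ b)⁻¹) * wel * emb (zof x)`.
-/

set_option autoImplicit false

namespace Cfsg.Agent.H112

open Cfsg.Agent.UThreeGen.MatGroup Matrix

variable {F : Type*} [Field F] {σ : F →+* F}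

/-- the matrix of a torus element -/
def tmat (σ : F →+* F) (ε : Fˣ) : Matrix (Fin 3) (Fin 3) F :=
  !![(ε : F), 0, 0; 0, σ ε / ε, 0; 0, 0, (σ ε)⁻¹]

theorem sne (ε : Fˣ) : σ (ε : F) ≠ 0 := (map_ne_zero σ).2 ε.ne_zero

theorem det_tmat (ε : Fˣ) : (tmat σ ε).det = 1 := by
  have h1 : (ε : F) ≠ 0 := ε.ne_zero
  have h2 := sne (σ := σ) ε
  rw [tmat, Matrix.det_fin_three]
  simp
  field_simp

section

variable [hσ : Fact (∀ x, σ (σ x) = x)]

theorem tmat_mem (ε : Fˣ) : (tmat σ ε)ᵀ * Gm F * (tmat σ ε).map σ = Gm F := by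
  have h1 : (ε : F) ≠ 0 := ε.ne_zero
  have h2 := sne (σ := σ) ε
  ext i j
  fin_cases i <;> fin_cases j <;> simp [tmat, Gm, Matrix.mul_apply, Fin.sum_univ_three, sig]

/-- the torus -/
def tor (σ : F →+* F) [hσ : Fact (∀ x, σ (σ x) = x)] : Fˣ →* SUG σ where
  toFun ε := ⟨⟨tmat σ ε, det_tmat ε⟩, tmat_mem ε⟩
  map_one' := by
    apply Subtype.ext; apply Subtype.ext
    ext i j
    fin_cases i <;> fin_cases j <;> simp [tmat]
  map_mul' := by
    intro ε δ
    apply Subtype.ext; apply Subtype.ext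
    change tmat σ (ε * δ) = tmat σ ε * tmat σ δ
    ext i j
    fin_cases i <;> fin_cases j <;> simp [tmat, Matrix.mul_apply, Fin.sum_univ_three]
    · rw [div_mul_div_comm]
    · rw [mul_comm]

theorem tor_val (ε : Fˣ) : (tor σ ε).1.1 = tmat σ ε := rfl

theorem tor_injective : Function.Injective (tor σ) := by
  intro ε δ h
  have h1 : tmat σ ε = tmat σ δ := congrArg (fun g : SUG σ => g.1.1) h
  have := congrFun (congrFun h1 0) 0
  exact Units.ext (by simpa [tmat] using this)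

/-- the action of the torus on the pairs -/
def act (ε : Fˣ) : HG σ →* HG σ where
  toFun x := ⟨ε ^ 2 / σ ε * x.a, ε * σ ε * x.b, by
    have h1 : (ε : F) ≠ 0 := ε.ne_zero
    have h2 := sne (σ := σ) ε
    have := x.h
    simp only [map_mul, map_div₀, map_pow, sig]
    field_simp
    linear_combination this⟩
  map_one' := by ext <;> simp
  map_mul' := by
    intro x y
    have h1 : (ε : F) ≠ 0 := ε.ne_zero
    have h2 := sne (σ := σ) ε
    ext
    · simp only [mul_a]; ring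
    · simp only [mul_b, map_mul, map_div₀, map_pow, sig]
      field_simp

@[simp] theorem act_a (ε : Fˣ) (x : HG σ) : (act ε x).a = ε ^ 2 / σ ε * x.a := rfl
@[simp] theorem act_b (ε : Fˣ) (x : HG σ) : (act ε x).b = ε * σ ε * x.b := rfl

theorem tor_emb (ε : Fˣ) (x : HG σ) : tor σ ε * emb σ x = emb σ (act ε x) * tor σ ε := by
  have h1 : (ε : F) ≠ 0 := ε.ne_zero
  have h2 := sne (σ := σ) ε
  apply Subtype.ext; apply Subtype.ext
  change tmat σ ε * umat x = umat (act ε x) * tmat σ ε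
  ext i j
  fin_cases i <;> fin_cases j <;> simp [tmat, umat, Matrix.mul_apply, Fin.sum_univ_three, sig] <;> field_simp

theorem tor_conj (ε : Fˣ) (x : HG σ) : tor σ ε * emb σ x * (tor σ ε)⁻¹ = emb σ (act ε x) := by
  rw [tor_emb, mul_inv_cancel_right]

/-- `σ` on units -/
def su (σ : F →+* F) : Fˣ →* Fˣ := Units.map (σ : F →* F)

omit hσ in
@[simp] theorem su_val (ε : Fˣ) : ((su σ ε : Fˣ) : F) = σ ε := rfl

omit hσ in
theorem su_su [Fact (∀ x, σ (σ x) = x)] (ε : Fˣ) : su σ (su σ ε) = ε := Units.ext (sig _)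

theorem wel_tor (ε : Fˣ) : wel σ * tor σ ε = tor σ (su σ ε)⁻¹ * wel σ := by
  have h1 : (ε : F) ≠ 0 := ε.ne_zero
  have h2 := sne (σ := σ) ε
  apply Subtype.ext; apply Subtype.ext
  change Wm F * tmat σ ε = tmat σ (su σ ε)⁻¹ * Wm F
  ext i j
  fin_cases i <;> fin_cases j <;>
    simp [tmat, Wm, Matrix.mul_apply, Fin.sum_univ_three, sig]
  rw [div_eq_mul_inv, mul_comm]

theorem wel_tor_wel (ε : Fˣ) : wel σ * tor σ ε * wel σ = tor σ (su σ ε)⁻¹ := by
  rw [wel_tor, mul_assoc, wel_mul_wel, mul_one]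

/-- the left factor -/
def yof (x : HG σ) (hx : x ≠ 1) : HG σ := ⟨x.a / σ x.b, (x.b)⁻¹, by
  have hxb := b_ne_zero hx
  have hsb : σ x.b ≠ 0 := (map_ne_zero σ).mpr hxb
  have := x.h
  rw [map_inv₀, map_div₀, sig]
  field_simp
  linear_combination this⟩

/-- the right factor -/
def zof (x : HG σ) (hx : x ≠ 1) : HG σ := ⟨x.a / x.b, (x.b)⁻¹, by
  have hxb := b_ne_zero hx
  have hsb : σ x.b ≠ 0 := (map_ne_zero σ).mpr hxb
  have := x.h
  rw [map_inv₀, map_div₀]
  field_simp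
  linear_combination this⟩

/-- the torus factor -/
def eof (x : HG σ) (hx : x ≠ 1) : Fˣ := -(su σ (Units.mk0 x.b (b_ne_zero hx)))⁻¹

@[simp] theorem yof_a (x : HG σ) (hx : x ≠ 1) : (yof x hx).a = x.a / σ x.b := rfl
@[simp] theorem yof_b (x : HG σ) (hx : x ≠ 1) : (yof x hx).b = (x.b)⁻¹ := rfl
@[simp] theorem zof_a (x : HG σ) (hx : x ≠ 1) : (zof x hx).a = x.a / x.b := rfl
@[simp] theorem zof_b (x : HG σ) (hx : x ≠ 1) : (zof x hx).b = (x.b)⁻¹ := rfl
@[simp] theorem eof_val (x : HG σ) (hx : x ≠ 1) : ((eof x hx : Fˣ) : F) = -(σ x.b)⁻¹ := by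
  simp [eof]

/-- **The Bruhat relation.** -/
theorem wel_emb_wel (x : HG σ) (hx : x ≠ 1) :
    wel σ * emb σ x * wel σ = emb σ (yof x hx) * tor σ (eof x hx) * wel σ * emb σ (zof x hx) := by
  have hxb := b_ne_zero hx
  have hsb : σ x.b ≠ 0 := (map_ne_zero σ).mpr hxb
  have hh := x.h
  apply Subtype.ext; apply Subtype.ext
  change Wm F * umat x * Wm F = umat (yof x hx) * tmat σ (eof x hx) * Wm F * umat (zof x hx)
  ext i j
  fin_cases i <;> fin_cases j <;>
    simp [tmat, umat, Wm, Matrix.mul_apply, Fin.sum_univ_three, sig] <;> field_simp <;>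
    first
    | ring1
    | linear_combination hh
    | linear_combination -hh
    | linear_combination x.b * hh

end

end Cfsg.Agent.H112
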