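import Cfsg.Agent.H112.BorelAbs

/-!
# The relations of the Borel subgroup of `SU₃(q)`, in the group (helper112)
-/

set_option autoImplicit false

namespace Cfsg.Agent.H112

open Cfsg.Agent.UThreeGen.MatGroup Matrix
open scoped commutatorElement

variable {F : Type*} [Field F] {σ : F →+* F} [hσ : Fact (∀ x, σ (σ x) = x)]

/-- the first coordinate as a homomorphism -/
def aHom (σ : F →+* F) [hσ : Fact (∀ x, σ (σ x) = x)] : HG σ →* Multiplicative F where
  toFun x := Multiplicative.ofAdd x.a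
  map_one' := rfl
  map_mul' := fun _ _ => rfl

theorem a_comm (x y : HG σ) : (⁅x, y⁆ : HG σ).a = 0 := by
  have h : aHom σ ⁅x, y⁆ = 1 := by
    rw [map_commutatorElement, commutatorElement_eq_one_iff_mul_comm, mul_comm]
  exact h

theorem a_pow (x : HG σ) (n : ℕ) : (x ^ n).a = n * x.a := by
  have h : aHom σ (x ^ n) = aHom σ x ^ n := map_pow _ _ _
  have h2 : (x ^ n).a = n • x.a := h
  rw [h2, nsmul_eq_mul]

theorem a_inv (x : HG σ) : (x⁻¹).a = -x.a := by
  have h : aHom σ (x⁻¹) = (aHom σ x)⁻¹ := map_inv _ _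
  exact h

variable [Finite F] {q p e : ℕ} {g : Fˣ}

omit hσ [Finite F] in
theorem sb_of_a {x : HG σ} (hx : x.a = 0) : σ x.b = -x.b := by
  have := x.h
  rw [hx, zero_mul] at this
  exact eq_neg_of_add_eq_zero_right this

/-- elements of the centre -/
theorem emb_mem_orbz (D : FQ σ q p e g) {κ : F} (hκ : σ κ = -κ) (hκ0 : κ ≠ 0) {x : HG σ} (hx : x.a = 0) :
    emb σ x ∈ orb (tor σ g) (emb σ (zp κ hκ)) := by
  have hb := sb_of_a hx
  by_cases hb0 : x.b = 0
  · have : x = 1 := HG.ext hx hb0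
    rw [this, map_one]; exact one_mem _
  · obtain ⟨n, hn⟩ := D.gen_K (x.b / κ) (by rw [mem_KF, map_div₀, hκ, hb, neg_div_neg_eq]) (div_ne_zero hb0 hκ0)
    have : emb σ x = cj (tor σ g) n (emb σ (zp κ hκ)) := by
      rw [cj_tor_emb]
      congr 1
      ext
      · rw [act_pow_a]; simp [hx]
      · rw [act_pow_b, hn]; simp only [zp_b]; field_simp
    rw [this]; exact mem_orb _ _ _

omit [Finite F] in
/-- membership from the first coordinate -/
theorem emb_mem_of_span {g : Fˣ} {x₀ : HG σ} (hx₀ : x₀.a = 1) (S : Set ℤ) {M : Subgroup (SUG σ)}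
    (hM0 : ∀ x : HG σ, x.a = 0 → emb σ x ∈ M) (hM1 : ∀ n ∈ S, cj (tor σ g) n (emb σ x₀) ∈ M) {x : HG σ}
    (hx : x.a ∈ AddSubgroup.closure {y : F | ∃ n ∈ S, y = zeF σ g ^ n}) : emb σ x ∈ M := by
  -- enough: some element with that first coordinate
  have key : ∀ a ∈ AddSubgroup.closure {y : F | ∃ n ∈ S, y = zeF σ g ^ n}, ∃ y : HG σ, y.a = a ∧ emb σ y ∈ M := by
    intro a ha
    induction ha using AddSubgroup.closure_induction with
    | mem a ha =>
      obtain ⟨n, hn, rfl⟩ := ha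
      refine ⟨act (g ^ n) x₀, by rw [act_pow_a, hx₀, mul_one], ?_⟩
      rw [← cj_tor_emb]; exact hM1 n hn
    | zero => exact ⟨1, rfl, by rw [map_one]; exact one_mem _⟩
    | add a b _ _ iha ihb =>
      obtain ⟨y, h1, h2⟩ := iha
      obtain ⟨z, h3, h4⟩ := ihb
      exact ⟨y * z, by rw [mul_a, h1, h3], by rw [map_mul]; exact mul_mem h2 h4⟩
    | neg a _ iha =>
      obtain ⟨y, h1, h2⟩ := iha
      exact ⟨y⁻¹, by rw [a_inv, h1], by rw [map_inv]; exact inv_mem h2⟩
  obtain ⟨y, hy, hyM⟩ := key _ hx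
  have h1 : (y⁻¹ * x).a = 0 := by rw [mul_a, a_inv, hy]; ring
  have h2 := mul_mem hyM (hM0 _ h1)
  rwa [← map_mul, mul_inv_cancel_left] at h2

theorem z_mem_orb (D : FQ σ q p e g) (hq3 : 3 ≤ q) {x₀ : HG σ} (hx₀ : x₀.a = 1) {κ : F} (hκ : σ κ = -κ) :
    emb σ (zp κ hκ) ∈ orb (tor σ g) (emb σ x₀) := by
  by_cases hκ0 : κ = 0
  · have : (zp κ hκ : HG σ) = 1 := HG.ext rfl hκ0
    rw [this, map_one]; exact one_mem _
  set c : HG σ := ⁅x₀, act (g ^ (1 : ℤ)) x₀⁆ with hc
  have hca : c.a = 0 := a_comm _ _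
  have hmem : emb σ c ∈ orb (tor σ g) (emb σ x₀) := by
    rw [hc, map_commutatorElement, ← cj_tor_emb]
    exact (orb (tor σ g) (emb σ x₀)).mul_mem ((orb _ _).mul_mem ((orb _ _).mul_mem (self_mem_orb _ _) (mem_orb _ _ _))
      (inv_mem (self_mem_orb _ _))) (inv_mem (mem_orb _ _ _))
  have hcb : c.b ≠ 0 := by
    intro h0
    have hc1 : c = 1 := HG.ext hca h0
    rw [hc, commutatorElement_eq_one_iff_mul_comm] at hc1
    have := congrArg HG.b hc1
    rw [mul_b, mul_b, act_pow_a, hx₀] at this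
    simp only [zpow_one, mul_one, map_one] at this
    apply D.ze_not_mem hq3
    rw [mem_KF]
    linear_combination this
  have h1 : zp κ hκ ∈ {x : HG σ | x.a = 0} := rfl
  -- `zp κ` is a torus conjugate of `c`
  have h2 := emb_mem_orbz D (κ := c.b) (sb_of_a hca) hcb (x := zp κ hκ) rfl
  have h3 : (zp c.b (sb_of_a hca) : HG σ) = c := HG.ext hca.symm rfl
  rw [h3] at h2
  have h4 : orb (tor σ g) (emb σ c) ≤ orb (tor σ g) (emb σ x₀) := by
    apply (Subgroup.closure_le _).2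
    rintro _ ⟨n, rfl⟩
    exact cj_mem_orb hmem n
  exact h4 h2

theorem emb_mem_orb (D : FQ σ q p e g) (hq3 : 3 ≤ q) {x₀ : HG σ} (hx₀ : x₀.a = 1) (x : HG σ) :
    emb σ x ∈ orb (tor σ g) (emb σ x₀) := by
  apply emb_mem_of_span (g := g) hx₀ (Set.univ : Set ℤ)
  · intro x hx
    have h3 : (zp x.b (sb_of_a hx) : HG σ) = x := HG.ext hx.symm rfl
    rw [← h3]; exact z_mem_orb D hq3 hx₀ _
  · intro n _; exact mem_orb _ _ _
  · have := D.ze_span hq3 x.a
    apply AddSubgroup.closure_mono _ this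
    rintro _ ⟨n, rfl⟩
    exact ⟨n, trivial, by simp⟩

/-- the relations hold in the group -/
theorem brel_SUG (D : FQ σ q p e g) (hq3 : 3 ≤ q) {l : ℤ} (hl : nuF σ g ^ l = 1 + nuF σ g)
    {x₀ : HG σ} (hx₀ : x₀.a = 1) {κ : F} (hκ : σ κ = -κ) (hκ0 : κ ≠ 0) :
    BRel (emb σ x₀) (tor σ g) (emb σ (zp κ hκ)) q p e l := by
  have hz0 := fun (x : HG σ) (hx : x.a = 0) => emb_mem_orbz D hκ hκ0 hx
  have hνq : zeF σ g ^ ((q : ℤ) + 1) = nuF σ g := by
    rw [show ((q : ℤ) + 1) = ((q + 1 : ℕ) : ℤ) by push_cast; ring, zpow_natCast, D.ze_pow]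
  have hp0 := D.p_zero
  have centr : ∀ (x : HG σ) (b : F) (hb : σ b = -b), Commute (emb σ x) (emb σ (zp b hb)) := by
    intro x b hb
    rw [Commute, SemiconjBy, ← map_mul, ← map_mul]
    congr 1
    ext
    · simp
    · simp only [mul_b, zp_b, zp_a, map_zero]; ring
  refine ⟨?_, ?_, ?_, ?_, ?_, ?_, ?_, ?_, ?_, ?_, ?_, ?_, ?_, ?_⟩
  · rw [← map_pow, D.g_pow, map_one]
  · rw [← map_pow]
    have : ∀ n : ℕ, (zp κ hκ : HG σ) ^ n = zp (n * κ) (by rw [map_mul, map_natCast, hκ]; ring) := by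
      intro n
      induction n with
      | zero => rw [pow_zero]; ext <;> simp
      | succ n ih =>
        rw [pow_succ, ih]
        ext
        · simp
        · simp only [mul_b, zp_b, zp_a, map_zero]; push_cast; ring
    rw [this]
    have h2 : (zp ((p : F) * κ) (by rw [map_mul, map_natCast, hκ]; ring) : HG σ) = 1 := by
      ext
      · simp
      · simp [hp0]
    rw [h2, map_one]
  · rw [cj_tor_emb]
    have h3 : (act (g ^ (1 : ℤ)) (zp κ hκ)) = zp (nuF σ g ^ (1 : ℤ) * κ) (by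
        rw [map_mul, hκ, map_zpow₀, mem_KF.1 D.nu_mem]; ring) := by
      ext
      · rw [act_pow_a]; simp
      · rw [act_pow_b]; rfl
    rw [h3]; exact centr _ _ _
  · rw [cj_tor_emb, cj_tor_emb, ← map_mul]
    congr 1
    ext
    · rw [act_pow_a, mul_a, act_pow_a]; simp
    · rw [act_pow_b, hl, mul_b, act_pow_b, act_pow_a]; simp only [zp_b, zp_a, mul_zero, map_zero, zpow_one]; ring
  · -- ze
    rw [cj_tor_emb]
    have key : ∀ c ∈ AddSubgroup.closure {y : F | ∃ i : ℕ, i < e ∧ y = nuF σ g ^ i}, ∀ x : HG σ, x.a = 0 →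
        x.b = c * κ → emb σ x ∈ orbLt (tor σ g) (emb σ (zp κ hκ)) e := by
      intro c hc
      induction hc using AddSubgroup.closure_induction with
      | mem c hc =>
        obtain ⟨i, hi, rfl⟩ := hc
        intro x hxa hxb
        apply Subgroup.subset_closure
        refine ⟨i, hi, ?_⟩
        rw [cj_tor_emb]
        congr 1
        ext
        · rw [act_pow_a]; simp [hxa]
        · rw [act_pow_b, zpow_natCast, hxb]; rfl
      | zero =>
        intro x hxa hxb
        rw [zero_mul] at hxb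
        have : x = 1 := HG.ext hxa hxb
        rw [this, map_one]; exact one_mem _
      | add a b ha hb iha ihb =>
        intro x hxa hxb
        have hK : ∀ c ∈ AddSubgroup.closure {y : F | ∃ i : ℕ, i < e ∧ y = nuF σ g ^ i}, σ c = c := by
          intro c hc
          have : AddSubgroup.closure {y : F | ∃ i : ℕ, i < e ∧ y = nuF σ g ^ i} ≤ (KF σ).toSubring.toAddSubgroup := by
            rw [AddSubgroup.closure_le]
            rintro _ ⟨i, -, rfl⟩
            exact pow_mem D.nu_mem i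
          exact this hc
        have h1 := iha (zp (a * κ) (by rw [map_mul, hK a ha, hκ]; ring)) rfl rfl
        have h2 := ihb (zp (b * κ) (by rw [map_mul, hK b hb, hκ]; ring)) rfl rfl
        have h3 := mul_mem h1 h2
        rw [← map_mul] at h3
        convert h3 using 2
        ext
        · simp [hxa]
        · simp only [mul_b, zp_b, zp_a, map_zero, hxb]; ring
      | neg a ha iha =>
        intro x hxa hxb
        have h1 := iha x⁻¹ (by rw [a_inv, hxa, neg_zero]) (by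
          have h4 : (x * x⁻¹).b = 0 := by rw [mul_inv_cancel]; rfl
          rw [mul_b, hxa] at h4
          rw [hxb] at h4
          linear_combination h4)
        have := inv_mem h1
        rwa [← map_inv, inv_inv] at this
    apply key _ D.nu_span
    · rw [act_pow_a]; simp
    · rw [act_pow_b, zpow_natCast]; rfl
  · intro j _
    rw [cj_tor_emb]; exact centr _ _ _
  · -- u3
    rw [cj_tor_emb]
    apply emb_mem_of_span (g := g) hx₀ {n : ℤ | ∃ (i : ℤ) (j : ℕ), j < 3 ∧ n = ((q : ℤ) - 1) * i + j}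
    · intro x hx; exact Subgroup.mem_sup_right (hz0 x hx)
    · rintro n ⟨i, j, hj, rfl⟩
      exact Subgroup.mem_sup_left (Subgroup.subset_closure ⟨i, j, hj, rfl⟩)
    · rw [act_pow_a, hx₀, mul_one]
      have := D.ze_cube
      rw [show zeF σ g ^ (3 : ℤ) = zeF σ g ^ 3 by norm_cast]
      apply AddSubgroup.closure_mono _ this
      rintro _ ⟨i, j, hj, rfl⟩
      exact ⟨_, ⟨i, j, hj, rfl⟩, rfl⟩
  · rw [← map_pow]
    apply hz0
    rw [a_pow, hp0, zero_mul]
  · rw [cj_tor_emb, ← map_commutatorElement]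
    exact hz0 _ (a_comm _ _)
  · rw [cj_tor_emb, cj_tor_emb, ← map_mul, ← map_inv, ← map_mul]
    apply hz0
    rw [mul_a, a_inv, mul_a, act_pow_a, act_pow_a, hx₀, _root_.zpow_mul, hνq, hl]; ring
  · -- ue
    rw [cj_tor_emb]
    apply emb_mem_of_span (g := g) hx₀ {n : ℤ | ∃ i : ℕ, i < e ∧ n = ((q : ℤ) + 1) * i}
    · intro x hx; exact Subgroup.mem_sup_right (hz0 x hx)
    · rintro n ⟨i, hi, rfl⟩
      exact Subgroup.mem_sup_left (Subgroup.subset_closure ⟨i, hi, (cj.zpow_cj _ _ _ _).symm⟩)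
    · rw [act_pow_a, hx₀, mul_one, _root_.zpow_mul, hνq, zpow_natCast]
      apply AddSubgroup.closure_mono _ D.nu_span
      rintro _ ⟨i, hi, rfl⟩
      exact ⟨_, ⟨i, hi, rfl⟩, by rw [_root_.zpow_mul, hνq, zpow_natCast]⟩
  · rw [cj_tor_emb, ← map_commutatorElement]
    exact hz0 _ (a_comm _ _)
  · rw [cj_tor_emb, ← map_commutatorElement]
    exact hz0 _ (a_comm _ _)
  · -- uu
    rw [cj_tor_emb]
    apply emb_mem_of_span (g := g) hx₀ ({n : ℤ | ∃ i : ℤ, n = ((q : ℤ) + 1) * i} ∪ {n : ℤ | ∃ i : ℤ, n = 1 + ((q : ℤ) + 1) * i})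
    · intro x hx; exact Subgroup.mem_sup_right (hz0 x hx)
    · rintro n (⟨i, rfl⟩ | ⟨i, rfl⟩)
      · apply Subgroup.mem_sup_left; apply Subgroup.mem_sup_left
        rw [← cj.zpow_cj]; exact mem_orb _ _ _
      · apply Subgroup.mem_sup_left; apply Subgroup.mem_sup_right
        refine ⟨cj ((tor σ g) ^ ((q : ℤ) + 1)) i (emb σ x₀), mem_orb _ _ _, ?_⟩
        rw [cj.hom_apply, cj.zpow_cj, ← cj.add]
    · rw [act_pow_a, hx₀, mul_one]
      rw [show zeF σ g ^ (2 : ℤ) = zeF σ g ^ 2 by norm_cast]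
      obtain ⟨s, hs, t, ht, hst⟩ := D.ze_sq
      rw [hst]
      apply add_mem
      · by_cases hs0 : s = 0
        · rw [hs0]; exact zero_mem _
        · obtain ⟨n, hn⟩ := D.gen_K s hs hs0
          apply AddSubgroup.subset_closure
          exact ⟨_, Or.inl ⟨n, rfl⟩, by rw [_root_.zpow_mul, hνq, hn]⟩
      · by_cases ht0 : t = 0
        · rw [ht0, zero_mul]; exact zero_mem _
        · obtain ⟨n, hn⟩ := D.gen_K t ht ht0
          apply AddSubgroup.subset_closure
          exact ⟨_, Or.inr ⟨n, rfl⟩, by rw [zpow_add₀ D.ze_ne, _root_.zpow_mul, hνq, hn, zpow_one, mul_comm]⟩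

end Cfsg.Agent.H112
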