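import Mathlib

/-!
# Conjugates by powers of an element, and the lattice lemma of Campbell, Robertson and Williams (helper112)

`cj h n x = h ^ n * x * (h ^ n)⁻¹`. `commute_all`: if `cj h l x = x * cj h 1 x` and `x` commutes with `cj h 1 x`
then `x` commutes with all `cj h n x`. `card_le`: if moreover `x ^ p = 1` and `cj h e x` is in the subgroup
generated by the `cj h i x`, `i < e`, then the `cj h n x` generate an abelian group of order at most `p ^ e`.
-/

set_option autoImplicit false

namespace Cfsg.Agent.H112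

variable {Q : Type*} [Group Q]

/-- `h ^ n * x * (h ^ n)⁻¹` -/
def cj (h : Q) (n : ℤ) (x : Q) : Q := h ^ n * x * (h ^ n)⁻¹

namespace cj

variable (h : Q) (m n : ℤ) (x y : Q)

@[simp] theorem zero : cj h 0 x = x := by simp [cj]

theorem add : cj h (m + n) x = cj h m (cj h n x) := by
  simp only [cj, zpow_add]; group

theorem mul : cj h n (x * y) = cj h n x * cj h n y := by
  simp only [cj]; group

theorem inv : cj h n x⁻¹ = (cj h n x)⁻¹ := by
  simp only [cj]; group

@[simp] theorem one : cj h n (1 : Q) = 1 := by simp [cj]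

theorem pow (k : ℕ) : cj h n (x ^ k) = cj h n x ^ k := by
  simp only [cj]; rw [conj_pow]

theorem map {M : Type*} [Group M] (f : Q →* M) : f (cj h n x) = cj (f h) n (f x) := by
  simp [cj]

theorem neg_cancel : cj h (-n) (cj h n x) = x := by rw [← add]; simp

theorem cancel_neg : cj h n (cj h (-n) x) = x := by rw [← add]; simp

theorem injective : Function.Injective (cj h n) := fun a b e => by
  rw [← neg_cancel h n a, e, neg_cancel]

theorem commute_iff : Commute (cj h n x) (cj h n y) ↔ Commute x y := by
  constructor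
  · intro e
    apply cj.injective h n
    rw [mul, mul]; exact e
  · intro e
    change cj h n x * cj h n y = cj h n y * cj h n x
    rw [← mul, ← mul, e.eq]

theorem commute_shift : Commute (cj h m x) (cj h n y) ↔ Commute x (cj h (n - m) y) := by
  rw [← commute_iff h m x (cj h (n - m) y), ← add, add_sub_cancel]

/-- conjugation as a homomorphism -/
def hom : Q →* Q where
  toFun := cj h n
  map_one' := one h n
  map_mul' := mul h n

@[simp] theorem hom_apply : hom h n x = cj h n x := rfl

theorem zpow_cj (k : ℤ) : cj (h ^ k) n x = cj h (k * n) x := by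
  simp [cj, zpow_mul]

end cj

open cj

/-- **The lattice lemma.** -/
theorem commute_lattice {h x : Q} {k l : ℤ} (h1 : Commute x (cj h k x)) (h2 : cj h l x = x * cj h k x) (i j : ℤ) :
    Commute x (cj h (i * k + j * l) x) := by
  -- `S n`
  have sym : ∀ n, Commute x (cj h n x) → Commute x (cj h (-n) x) := by
    intro n hn
    have := (cj.commute_iff h (-n) x (cj h n x)).2 hn
    rw [neg_cancel] at this
    exact this.symm
  have tri : ∀ n, cj h (n + l) x = cj h n x * cj h (n + k) x := by
    intro n
    rw [add, h2, mul, ← add]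
  have up1 : ∀ n, Commute x (cj h n x) → Commute x (cj h (n + k) x) → Commute x (cj h (n + l) x) := by
    intro n a b
    rw [tri]; exact a.mul_right b
  have up2 : ∀ n, Commute x (cj h n x) → Commute x (cj h (n + l) x) → Commute x (cj h (n + k) x) := by
    intro n a b
    have : cj h (n + k) x = (cj h n x)⁻¹ * cj h (n + l) x := by rw [tri]; group
    rw [this]; exact a.inv_right.mul_right b
  have up3 : ∀ n, Commute x (cj h (n + k) x) → Commute x (cj h (n + l) x) → Commute x (cj h n x) := by
    intro n a b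
    have : cj h n x = cj h (n + l) x * (cj h (n + k) x)⁻¹ := by rw [tri]; group
    rw [this]; exact b.mul_right a.inv_right
  have dn1 : ∀ n, Commute x (cj h n x) → Commute x (cj h (n - k) x) → Commute x (cj h (n - l) x) := by
    intro n a b
    have := up1 (-n) (sym _ a) (by have := sym _ b; rwa [show -(n - k) = -n + k by ring] at this)
    have := sym _ this
    rwa [show -(-n + l) = n - l by ring] at this
  have dn2 : ∀ n, Commute x (cj h n x) → Commute x (cj h (n - l) x) → Commute x (cj h (n - k) x) := by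
    intro n a b
    have := up2 (-n) (sym _ a) (by have := sym _ b; rwa [show -(n - l) = -n + l by ring] at this)
    have := sym _ this
    rwa [show -(-n + k) = n - k by ring] at this
  have dn3 : ∀ n, Commute x (cj h (n - k) x) → Commute x (cj h (n - l) x) → Commute x (cj h n x) := by
    intro n a b
    have := up3 (-n) (by have := sym _ a; rwa [show -(n - k) = -n + k by ring] at this)
      (by have := sym _ b; rwa [show -(n - l) = -n + l by ring] at this)
    have := sym _ this
    rwa [neg_neg] at this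
  -- edges `E n : n, n + k ∈ S`
  let E : ℤ → Prop := fun n => Commute x (cj h n x) ∧ Commute x (cj h (n + k) x)
  have E0 : E 0 := ⟨by simp, by simpa using h1⟩
  have Eb : ∀ n, E n → E (n + l) := by
    rintro n ⟨a, b⟩
    have c := up1 n a b
    refine ⟨c, ?_⟩
    have := dn3 (n + l + k) (by rwa [add_sub_cancel_right]) (by rwa [show n + l + k - l = n + k by ring])
    exact this
  have Eb' : ∀ n, E n → E (n - l) := by
    rintro n ⟨a, b⟩
    have c : Commute x (cj h (n + k - l) x) := dn1 (n + k) b (by rwa [add_sub_cancel_right])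
    have d := up3 (n - l) (by rwa [show n - l + k = n + k - l by ring]) (by rwa [sub_add_cancel])
    exact ⟨d, by rwa [show n - l + k = n + k - l by ring]⟩
  have Ea : ∀ n, E n → E (n + k) := by
    rintro n ⟨a, b⟩
    have c := (Eb n ⟨a, b⟩).2
    refine ⟨b, up2 (n + k) b (by rwa [show n + k + l = n + l + k by ring])⟩
  have Ea' : ∀ n, E n → E (n - k) := by
    rintro n ⟨a, b⟩
    have c := (Eb' n ⟨a, b⟩).1
    exact ⟨dn2 n a c, by rwa [sub_add_cancel]⟩
  have Ei : ∀ i : ℤ, E (i * k) := by
    intro i
    induction i using Int.induction_on with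
    | zero => simpa using E0
    | succ i ih => have := Ea _ ih; rwa [show (i : ℤ) * k + k = (i + 1) * k by ring] at this
    | pred i ih => have := Ea' _ ih; rwa [show -(i : ℤ) * k - k = (-i - 1) * k by ring] at this
  have Eij : E (i * k + j * l) := by
    induction j using Int.induction_on with
    | zero => simpa using Ei i
    | succ j ih => have := Eb _ ih; rwa [show i * k + (j : ℤ) * l + l = i * k + (j + 1) * l by ring] at this
    | pred j ih => have := Eb' _ ih; rwa [show i * k + -(j : ℤ) * l - l = i * k + (-j - 1) * l by ring] at this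
  exact Eij.1

theorem commute_all {h x : Q} {l : ℤ} (h1 : Commute x (cj h 1 x)) (h2 : cj h l x = x * cj h 1 x) (m n : ℤ) :
    Commute (cj h m x) (cj h n x) := by
  rw [commute_shift]
  have := commute_lattice h1 h2 (n - m) 0
  simpa using this

/-- the subgroup generated by all `cj h n x` -/
def orb (h x : Q) : Subgroup Q := Subgroup.closure (Set.range fun n : ℤ => cj h n x)

/-- the subgroup generated by the `cj h i x`, `i < e` -/
def orbLt (h x : Q) (e : ℕ) : Subgroup Q := Subgroup.closure {y | ∃ i : ℕ, i < e ∧ y = cj h i x}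

theorem mem_orb (h x : Q) (n : ℤ) : cj h n x ∈ orb h x := Subgroup.subset_closure ⟨n, rfl⟩

theorem self_mem_orb (h x : Q) : x ∈ orb h x := by simpa using mem_orb h x 0

theorem orbLt_le (h x : Q) (e : ℕ) : orbLt h x e ≤ orb h x := by
  apply (Subgroup.closure_le _).2
  rintro _ ⟨i, -, rfl⟩
  exact mem_orb h x i

theorem cj_mem_orb {h x y : Q} (hy : y ∈ orb h x) (n : ℤ) : cj h n y ∈ orb h x := by
  have : (orb h x).map (cj.hom h n) ≤ orb h x := by
    rw [orb, MonoidHom.map_closure]
    apply (Subgroup.closure_le _).2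
    rintro _ ⟨_, ⟨m, rfl⟩, rfl⟩
    change cj h n (cj h m x) ∈ _
    rw [← cj.add]
    exact mem_orb h x _
  exact this ⟨y, hy, rfl⟩

/-- a subgroup invariant under `cj h 1` is invariant under all `cj h n` (`h` of finite order) -/
theorem cj_mem_of_one {h : Q} {N : ℕ} (hN : 0 < N) (hh : h ^ N = 1) {M : Subgroup Q}
    (hM : ∀ y ∈ M, cj h 1 y ∈ M) {y : Q} (hy : y ∈ M) (n : ℤ) : cj h n y ∈ M := by
  have h0 : ∀ k : ℕ, cj h k y ∈ M := by
    intro k
    induction k with
    | zero => simpa using hy
    | succ k ih =>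
      rw [show ((k + 1 : ℕ) : ℤ) = 1 + k by push_cast; ring, cj.add]
      exact hM _ ih
  have h1 : ∃ k : ℕ, h ^ n = h ^ k := by
    have hfin : IsOfFinOrder h := isOfFinOrder_iff_pow_eq_one.2 ⟨N, hN, hh⟩
    have := hfin.mem_powers_iff_mem_zpowers.2 (Subgroup.mem_zpowers_iff.2 ⟨n, rfl⟩ : h ^ n ∈ Subgroup.zpowers h)
    obtain ⟨k, hk⟩ := this
    exact ⟨k, hk.symm⟩
  obtain ⟨k, hk⟩ := h1
  have : cj h n y = cj h k y := by simp [cj, hk]
  rw [this]; exact h0 k

theorem orb_le_orbLt {h x : Q} {N : ℕ} (hN : 0 < N) (hh : h ^ N = 1) {e : ℕ} (he : 0 < e)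
    (hx : cj h e x ∈ orbLt h x e) : orb h x ≤ orbLt h x e := by
  have h1 : ∀ y ∈ orbLt h x e, cj h 1 y ∈ orbLt h x e := by
    intro y hy
    have : (orbLt h x e).map (cj.hom h 1) ≤ orbLt h x e := by
      rw [orbLt, MonoidHom.map_closure]
      apply (Subgroup.closure_le _).2
      rintro _ ⟨_, ⟨i, hi, rfl⟩, rfl⟩
      change cj h 1 (cj h i x) ∈ orbLt h x e
      rw [← cj.add, show (1 : ℤ) + i = ((i + 1 : ℕ) : ℤ) by push_cast; ring]
      rcases Nat.lt_or_ge (i + 1) e with h2 | h2
      · exact Subgroup.subset_closure ⟨i + 1, h2, rfl⟩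
      · have : i + 1 = e := by omega
        rw [this]; exact hx
    exact this ⟨y, hy, rfl⟩
  apply (Subgroup.closure_le _).2
  rintro _ ⟨n, rfl⟩
  refine cj_mem_of_one hN hh h1 ?_ n
  have : cj h ((0 : ℕ) : ℤ) x ∈ orbLt h x e := Subgroup.subset_closure ⟨0, he, rfl⟩
  simpa using this

/-- a subgroup generated by pairwise commuting elements is commutative -/
theorem comm_closure {S : Set Q} (hS : ∀ a ∈ S, ∀ b ∈ S, a * b = b * a) :
    ∀ a ∈ Subgroup.closure S, ∀ b ∈ Subgroup.closure S, a * b = b * a := by
  intro a ha b hb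
  have h1 : ∀ b ∈ S, ∀ a ∈ Subgroup.closure S, a * b = b * a := by
    intro b hb a ha
    have : Subgroup.closure S ≤ Subgroup.centralizer {b} := by
      apply (Subgroup.closure_le _).2
      intro c hc
      rw [SetLike.mem_coe, Subgroup.mem_centralizer_singleton_iff]
      exact hS c hc b hb
    exact (Subgroup.mem_centralizer_singleton_iff.1 (this ha))
  have : Subgroup.closure S ≤ Subgroup.centralizer {a} := by
    apply (Subgroup.closure_le _).2
    intro c hc
    rw [SetLike.mem_coe, Subgroup.mem_centralizer_singleton_iff]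
    exact (h1 c hc a ha).symm
  exact (Subgroup.mem_centralizer_singleton_iff.1 (this hb)).symm

theorem card_closure_le {S : Set Q} (hS : ∀ a ∈ S, ∀ b ∈ S, a * b = b * a) {p e : ℕ} (hp : 0 < p)
    (hSp : ∀ a ∈ S, a ^ p = 1) (T : Finset Q) (hT : (T : Set Q) = S) (he : T.card ≤ e) :
    Finite (Subgroup.closure S) ∧ Nat.card (Subgroup.closure S) ≤ p ^ e := by
  classical
  let A := Subgroup.closure S
  have hc := comm_closure hS
  let _ : CommGroup A := { (inferInstance : Group A) with mul_comm := fun a b => Subtype.ext (hc a a.2 b b.2) }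
  -- generators as elements of `A`
  let T' : Finset A := T.attach.image fun t => ⟨t.1, Subgroup.subset_closure (hT ▸ t.2)⟩
  have hT' : T'.card ≤ e := (Finset.card_image_le.trans (by simp)).trans he
  have hgen : Subgroup.closure (T' : Set A) = ⊤ := by
    rw [eq_top_iff]
    rintro ⟨a, ha⟩ -
    have h1 : A = (Subgroup.closure (T' : Set A)).map A.subtype := by
      rw [MonoidHom.map_closure]
      have : S = A.subtype '' (T' : Set A) := ?_
      · exact congrArg Subgroup.closure this
      ext y
      constructor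
      · intro hy
        exact ⟨⟨y, Subgroup.subset_closure hy⟩, by
          simp only [T', Finset.coe_image, Set.mem_image, Finset.mem_coe, Finset.mem_attach, true_and]
          exact ⟨⟨y, by rw [← Finset.mem_coe, hT]; exact hy⟩, rfl⟩, rfl⟩
      · rintro ⟨y', hy', rfl⟩
        simp only [T', Finset.coe_image, Set.mem_image, Finset.mem_coe, Finset.mem_attach, true_and] at hy'
        obtain ⟨t, rfl⟩ := hy'
        change (t : Q) ∈ S
        rw [← hT]; exact t.2
    have h2 : a ∈ (Subgroup.closure (T' : Set A)).map A.subtype := by rw [← h1]; exact ha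
    obtain ⟨b, hb, e⟩ := h2
    have : b = ⟨a, ha⟩ := Subtype.ext e
    rw [← this]; exact hb
  have hexp : ∀ a : A, a ^ p = 1 := by
    intro a
    have : (⊤ : Subgroup A) ≤ (powMonoidHom p : A →* A).ker := by
      rw [← hgen]
      apply (Subgroup.closure_le _).2
      intro y hy
      simp only [T', Finset.coe_image, Set.mem_image, Finset.mem_coe, Finset.mem_attach, true_and] at hy
      obtain ⟨t, rfl⟩ := hy
      rw [SetLike.mem_coe, MonoidHom.mem_ker, powMonoidHom_apply]
      apply Subtype.ext
      change (t : Q) ^ p = 1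
      exact hSp _ (hT ▸ t.2)
    exact this (Subgroup.mem_top a)
  have hfg : Group.FG A := Group.fg_iff.2 ⟨_, hgen, T'.finite_toSet⟩
  have hr : Group.rank A ≤ e := (Group.rank_le hgen).trans hT'
  have hd : Nat.card A ∣ p ^ Group.rank A := card_dvd_exponent_pow_rank' A hexp
  have hpos : 0 < p ^ Group.rank A := pow_pos hp _
  have hle : Nat.card A ≤ p ^ Group.rank A := Nat.le_of_dvd hpos hd
  have hne : Nat.card A ≠ 0 := fun h0 => by rw [h0, zero_dvd_iff] at hd; exact hpos.ne' hd
  exact ⟨Nat.finite_of_card_ne_zero hne, hle.trans (Nat.pow_le_pow_right hp hr)⟩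

/-- **The order of the abelian group generated by the conjugates.** -/
theorem orb_card_le {h x : Q} {N : ℕ} (hN : 0 < N) (hh : h ^ N = 1) {p e : ℕ} (hp : 0 < p) (he : 0 < e)
    (hc : ∀ m n : ℤ, Commute (cj h m x) (cj h n x)) (hxp : x ^ p = 1) (hx : cj h e x ∈ orbLt h x e) :
    Finite (orb h x) ∧ Nat.card (orb h x) ≤ p ^ e := by
  classical
  have h1 : orb h x = orbLt h x e := le_antisymm (orb_le_orbLt hN hh he hx) (orbLt_le h x e)
  rw [h1]
  refine card_closure_le ?_ hp ?_ ((Finset.range e).image fun i : ℕ => cj h i x) ?_ ?_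
  · rintro _ ⟨i, -, rfl⟩ _ ⟨j, -, rfl⟩
    exact (hc i j).eq
  · rintro _ ⟨i, -, rfl⟩
    rw [← cj.pow, hxp, cj.one]
  · ext y
    simp only [Finset.coe_image, Set.mem_image, Finset.mem_coe, Finset.mem_range, Set.mem_ofPred_eq]
    constructor
    · rintro ⟨i, hi, rfl⟩; exact ⟨i, hi, rfl⟩
    · rintro ⟨i, hi, rfl⟩; exact ⟨i, hi, rfl⟩
  · exact Finset.card_image_le.trans (by simp)

/-- a map on a finite set of at most `c` elements with at least `c` values is injective -/
theorem inj_of_card {A : Subgroup Q} [Finite A] {c : ℕ} (hA : Nat.card A ≤ c) {M : Type*} (ψ : Q → M)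
    {V : Set M} (hV : c ≤ V.ncard) (hsur : ∀ v ∈ V, ∃ a ∈ A, ψ a = v) :
    (∀ a ∈ A, ∀ b ∈ A, ψ a = ψ b → a = b) ∧ ∀ a ∈ A, ψ a ∈ V := by
  classical
  have hfin : (A : Set Q).Finite := Set.toFinite _
  have hcA : (A : Set Q).ncard = Nat.card A := rfl
  have hVsub : V ⊆ ψ '' (A : Set Q) := fun v hv => by
    obtain ⟨a, ha, e⟩ := hsur v hv
    exact ⟨a, ha, e⟩
  have h1 : (ψ '' (A : Set Q)).ncard ≤ (A : Set Q).ncard := Set.ncard_image_le hfin
  have h2 : V.ncard ≤ (ψ '' (A : Set Q)).ncard := Set.ncard_le_ncard hVsub (hfin.image ψ)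
  have h3 : (ψ '' (A : Set Q)).ncard = (A : Set Q).ncard := by omega
  have h4 : V = ψ '' (A : Set Q) := Set.eq_of_subset_of_ncard_le hVsub (by omega) (hfin.image ψ)
  refine ⟨fun a ha b hb e => ?_, fun a ha => h4 ▸ ⟨a, ha, rfl⟩⟩
  exact (Set.injOn_of_ncard_image_eq h3 hfin) ha hb e

end Cfsg.Agent.H112
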