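import Cfsg.Agent.H112.SUPres
import Cfsg.Agent.UThreeGen.Recog
import Cfsg.Agent.LieClassical.SUBasic

/-!
# The isomorphism of the model with `SU 3 F q`, the centre of `SU`, the field data (helper112)
-/

set_option autoImplicit false

namespace Cfsg.Agent.H112

open Cfsg.Agent.UThreeGen.MatGroup Cfsg.Agent.UThreeGen.Recog Matrix Cfsg.Agent.H111
open Cfsg.Agent.LieRecognition.PSUThreeSylow (conjT conjT_coe mem_SU_iff)
open Cfsg.Agent.LieClassical.SUBasic

/-- A field with `q²` elements has the data `FQ`. -/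
theorem exists_FQ {F : Type*} [Field F] [Finite F] {q : ℕ} (hF : Nat.card F = q ^ 2) :
    ∃ (σ : F →+* F) (p e : ℕ) (g : Fˣ), FQ σ q p e g := by
  let _ := Fintype.ofFinite F
  obtain ⟨p, hp⟩ := CharP.exists F
  have hpp : p.Prime := by
    rcases CharP.char_is_prime_or_zero F p with h | h
    · exact h
    · exfalso
      subst h
      have : CharZero F := CharP.charP_to_charZero F
      exact not_finite F
  have : Fact p.Prime := ⟨hpp⟩
  obtain ⟨n, -, hn⟩ := FiniteField.card F p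
  rw [Nat.card_eq_fintype_card] at hF
  have hq2 : q ^ 2 = p ^ (n : ℕ) := by rw [← hF, hn]
  have hdvd : q ∣ p ^ (n : ℕ) := by rw [← hq2]; exact dvd_pow_self q (by norm_num)
  obtain ⟨e, -, he⟩ := (Nat.dvd_prime_pow hpp).1 hdvd
  obtain ⟨g, hg⟩ := IsCyclic.exists_generator (α := Fˣ)
  have hcp : ExpChar F p := ExpChar.prime hpp
  refine ⟨iterateFrobenius F p e, p, e, g, ?_, ?_, ?_, hpp, he, ?_⟩
  · intro x; rw [iterateFrobenius_def, he]
  · rw [Nat.card_eq_fintype_card, hF]
  · have h1 : 1 < Fintype.card F := Fintype.one_lt_card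
    rw [hF] at h1
    by_contra h
    have : q = 0 ∨ q = 1 := by omega
    rcases this with rfl | rfl <;> norm_num at h1
  · intro x
    exact Subgroup.mem_zpowers_iff.1 (hg x)

section

variable {F : Type*} [Field F] {σ : F →+* F} [hσ : Fact (∀ x, σ (σ x) = x)]

/-- A matrix taking the standard form to the form with Gram matrix `-Gm`, characteristic two. -/
theorem exists_T_two (h2 : (2 : F) = 0) {v : F} (hv : v + σ v = 1) :
    ∃ T T' : Matrix (Fin 3) (Fin 3) F, T * T' = 1 ∧ Tᵀ * T.map σ = -Gm F := by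
  let T : Matrix (Fin 3) (Fin 3) F := !![1, 0, v; 1, 0, v + 1; 0, 1, 0]
  have hT : Tᵀ * T.map σ = -Gm F := by
    ext i j
    fin_cases i <;> fin_cases j <;>
      simp [T, Gm, Matrix.mul_apply, Fin.sum_univ_three, Matrix.transpose_apply]
    · linear_combination h2
    · linear_combination σ v * h2 + h2
    · linear_combination v * h2 + h2
    · linear_combination v * σ v * h2 + hv + h2
  refine ⟨T, -Gm F * (T.map σ)ᵀ, ?_, hT⟩
  have h1 : (-Gm F * Tᵀ) * T.map σ = 1 := by
    rw [Matrix.mul_assoc, hT, Matrix.neg_mul, Matrix.mul_neg, neg_neg, Gm_mul_Gm]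
  have h3 := congrArg (fun M : Matrix (Fin 3) (Fin 3) F => M.map σ) h1
  have hneg : (-Gm F).map σ = -Gm F := by
    ext i j
    have := congrFun (congrFun (Gm_map σ) i) j
    simp only [Matrix.map_apply] at this
    simp [this]
  simp only [Matrix.map_mul, map_map_sig, hneg, Matrix.map_one σ (map_zero σ) (map_one σ)] at h3
  exact mul_eq_one_comm.mp h3

end

/-- the model is `SU₃(q)` -/
theorem sug_equiv {F : Type*} [Field F] [Finite F] {σ : F →+* F} [hσ : Fact (∀ x, σ (σ x) = x)] {q p e : ℕ} {g : Fˣ}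
    (D : FQ σ q p e g) : Nonempty (SUG σ ≃* Cfsg.SU 3 F q) := by
  have h : ∃ T T' : Matrix (Fin 3) (Fin 3) F, T * T' = 1 ∧ Tᵀ * T.map σ = -Gm F := by
    by_cases h2 : (2 : F) = 0
    · obtain ⟨h1, h2', -⟩ := D.exists_mu
      exact exists_T_two h2 (mu_tau h1 h2')
    · obtain ⟨v, hv⟩ := D.norm (-1) (by simp) (by simp)
      exact exists_T h2 hv
  obtain ⟨T, T', hTT', hT⟩ := h
  exact ⟨((conjT hTT').subgroupMap (SUG σ)).trans (MulEquiv.subgroupCongr (SU_eq_map D.hs hTT' hT))⟩

/-- the centre of `SU` is cyclic -/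
theorem center_SU_cyclic {F : Type*} [Field F] [Fintype F] {n q : ℕ} (hF : Fintype.card F = q ^ 2) (hn : 3 ≤ n) :
    IsCyclic (Subgroup.center (Cfsg.SU n F q)) := by
  classical
  let i0 : Fin n := ⟨0, by omega⟩
  have h : ∀ A : Subgroup.center (Cfsg.SU n F q), ∃ c : Fˣ, ((A : Cfsg.SU n F q).1.1 : Matrix (Fin n) (Fin n) F) =
      Matrix.diagonal (fun _ => (c : F)) := by
    rintro ⟨A, hA⟩
    obtain ⟨c, hcn, hcq, rfl⟩ := (mem_center_SU_iff hF hn A).1 hA
    have hc0 : c ≠ 0 := by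
      rintro rfl
      rw [zero_pow (Nat.succ_ne_zero q)] at hcq
      exact zero_ne_one hcq
    exact ⟨Units.mk0 c hc0, rfl⟩
  choose c hc using h
  have hcc : ∀ A, ((c A : Fˣ) : F) = ((A : Cfsg.SU n F q).1.1 : Matrix (Fin n) (Fin n) F) i0 i0 := by
    intro A; rw [hc]; simp
  let f : Subgroup.center (Cfsg.SU n F q) →* Fˣ :=
    { toFun := c
      map_one' := by
        apply Units.ext
        rw [hcc]; simp
      map_mul' := by
        intro A B
        apply Units.ext
        rw [hcc, Units.val_mul]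
        have h1 : (((A * B : Subgroup.center (Cfsg.SU n F q)) : Cfsg.SU n F q).1.1 : Matrix (Fin n) (Fin n) F) =
          (A : Cfsg.SU n F q).1.1 * (B : Cfsg.SU n F q).1.1 := rfl
        rw [h1, hc A, hc B, Matrix.diagonal_mul_diagonal, Matrix.diagonal_apply_eq] }
  refine isCyclic_of_injective f ?_
  intro A B h
  have h1 : c A = c B := h
  apply Subtype.ext; apply Subtype.ext; apply Subtype.ext
  rw [hc A, hc B, h1]

/-- **`SU₃(q)`, `q > 3`: 3 generators and 22 relators.** -/
theorem pres_SU3 {F : Type*} [Field F] [Finite F] {q : ℕ} (hF : Nat.card F = q ^ 2) (hq : 3 < q) :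
    HasPres (Cfsg.SU 3 F q) 3 22 := by
  obtain ⟨σ, p, e, g, D⟩ := exists_FQ hF
  have hσ : Fact (∀ x, σ (σ x) = x) := ⟨D.sq_sig⟩
  obtain ⟨E⟩ := sug_equiv D
  exact (pres_SUG D hq).of_mulEquiv E

theorem pres_PSU3 {F : Type*} [Field F] [Fintype F] {q : ℕ} (hF : Fintype.card F = q ^ 2) (hq : 3 < q) :
    HasPres (Cfsg.PSU 3 F q) 3 23 :=
  (pres_SU3 (by rw [Nat.card_eq_fintype_card, hF]) hq).centerQuo (center_SU_cyclic hF le_rfl)

end Cfsg.Agent.H112
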